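import Mathlib
import Cfsg.Agent.Prune
set_option linter.all false
prune_inst 0x7f00000000000000000000000000000000000000000000000000000000000000000000000000000000000000000000000000000000000000000000000000000000000000000000000000000000000000003fffffffffffffffffffffffffffbeffbdffffffff
open scoped Cfsg.Agent.FastGrp

/-!
# Two Frobenius subgroups of `SL_n(q)`, `n = 2 ^ m`, `q` even (helper414, for S3629)

* `frob_one` : kernel of order `q ^ (n - 1)`, cyclic complement of order `q ^ (n - 1) - 1`;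
* `frob_two` : kernel of order `w`, `ord_w(q) = n`, cyclic complement of order `n`.
-/

set_option autoImplicit false
set_option linter.unusedSectionVars false

namespace Cfsg.Agent.H414.T29

open Matrix

/-- a Frobenius group with cyclic complement of order `m`, kernel of order prime to `p` -/
def FrobIn (H : Type*) [Group H] (p m : ℕ) : Prop :=
  ∃ (U : Subgroup H) (c : H), orderOf c = m ∧ (Nat.card U).Coprime p ∧ U ≠ ⊥ ∧ (∀ a ∈ U, c * a * c⁻¹ ∈ U) ∧
    ∀ i, 0 < i → i < m → ∀ a ∈ U, c ^ i * a = a * c ^ i → a = 1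

theorem FrobIn.map {H H' : Type*} [Group H] [Group H'] {p m : ℕ} (h : FrobIn H p m) (f : H →* H')
    (hf : Function.Injective f) : FrobIn H' p m := by
  obtain ⟨U, c, h1, h2, h3, h4, h5⟩ := h
  refine ⟨U.map f, f c, by rw [orderOf_injective f hf, h1], ?_, ?_, ?_, ?_⟩
  · rwa [Subgroup.card_map_of_injective hf]
  · rwa [Ne, Subgroup.map_eq_bot_iff_of_injective _ hf]
  · rintro _ ⟨a, ha, rfl⟩
    exact ⟨c * a * c⁻¹, h4 a ha, by simp⟩
  · rintro i hi him _ ⟨a, ha, rfl⟩ hc
    rw [← map_pow, ← map_mul, ← map_mul] at hc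
    rw [h5 i hi him a ha (hf hc), map_one]

section one

variable {F K : Type*} [Field F] [Field K] [Algebra F K] {N : ℕ} (b : Module.Basis (Fin N) F K)

theorem det_ne_zero_unit (a : Kˣ) : (Algebra.leftMulMatrix b (a : K)).det ≠ 0 := by
  have h : IsUnit (Algebra.leftMulMatrix b (a : K)) := a.isUnit.map _
  exact ((Matrix.isUnit_iff_isUnit_det _).1 h).ne_zero

/-- the torus -/
noncomputable def mhom : Kˣ →* Matrix.SpecialLinearGroup (Fin N ⊕ Unit) F where
  toFun a := ⟨fromBlocks (Algebra.leftMulMatrix b (a : K)) 0 0 (Matrix.of fun _ _ => (Algebra.leftMulMatrix b (a : K)).det⁻¹), by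
    rw [det_fromBlocks_zero₂₁, Matrix.det_unique (n := Unit), Matrix.of_apply,
      mul_inv_cancel₀ (det_ne_zero_unit b a)]⟩
  map_one' := by
    apply Subtype.ext
    change fromBlocks (Algebra.leftMulMatrix b (1 : K)) 0 0 _ = (1 : Matrix _ _ F)
    rw [← fromBlocks_one, map_one]
    congr 1
    ext i j
    simp
  map_mul' x y := by
    apply Subtype.ext
    change fromBlocks (Algebra.leftMulMatrix b ((x * y : Kˣ) : K)) 0 0 _ = fromBlocks _ 0 0 _ * fromBlocks _ 0 0 _
    rw [fromBlocks_multiply]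
    simp only [Matrix.mul_zero, Matrix.zero_mul, add_zero, zero_add]
    rw [Units.val_mul, map_mul]
    congr 1
    ext i j
    rw [Matrix.mul_apply, Matrix.det_mul, mul_inv]
    simp

theorem mhom_injective : Function.Injective (mhom b) := by
  intro x y h
  have h1 := congrArg Subtype.val h
  exact Units.ext (Algebra.leftMulMatrix_injective b (Matrix.fromBlocks_inj.1 h1).1)

/-- translations -/
def thom : Multiplicative (Matrix (Fin N) Unit F) →* Matrix.SpecialLinearGroup (Fin N ⊕ Unit) F where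
  toFun v := ⟨fromBlocks 1 v.toAdd 0 1, by rw [det_fromBlocks_zero₂₁, det_one, det_one, mul_one]⟩
  map_one' := by
    apply Subtype.ext
    change fromBlocks 1 0 0 1 = (1 : Matrix _ _ F)
    exact fromBlocks_one
  map_mul' x y := by
    apply Subtype.ext
    change fromBlocks 1 (x.toAdd + y.toAdd) 0 1 = fromBlocks 1 x.toAdd 0 1 * fromBlocks 1 y.toAdd 0 1
    rw [fromBlocks_multiply]
    simp [add_comm]

theorem thom_injective : Function.Injective (thom (F := F) (N := N)) := by
  intro x y h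
  have h1 := congrArg Subtype.val h
  exact (Matrix.fromBlocks_inj.1 h1).2.1

theorem smul_mul_of {X : Matrix (Fin N) Unit F} {d : F} (hd : d ≠ 0) :
    (d • X) * (Matrix.of fun _ _ => d⁻¹ : Matrix Unit Unit F) = X := by
  ext i j
  rw [Matrix.mul_apply, Finset.univ_unique, Finset.sum_singleton, Matrix.smul_apply, Matrix.of_apply, smul_eq_mul,
    mul_right_comm, mul_inv_cancel₀ hd, one_mul]

theorem mhom_mul_thom (a : Kˣ) (v : Matrix (Fin N) Unit F) :
    mhom b a * thom (Multiplicative.ofAdd v) * (mhom b a)⁻¹ =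
      thom (Multiplicative.ofAdd ((Algebra.leftMulMatrix b (a : K)).det • (Algebra.leftMulMatrix b (a : K) * v))) := by
  rw [mul_inv_eq_iff_eq_mul]
  apply Subtype.ext
  change fromBlocks (Algebra.leftMulMatrix b (a : K)) 0 0 _ * fromBlocks 1 v 0 1 =
    fromBlocks 1 _ 0 1 * fromBlocks (Algebra.leftMulMatrix b (a : K)) 0 0 _
  rw [fromBlocks_multiply, fromBlocks_multiply]
  simp only [Matrix.mul_zero, Matrix.zero_mul, add_zero, zero_add, Matrix.mul_one, Matrix.one_mul]
  rw [toAdd_ofAdd, smul_mul_of (det_ne_zero_unit b a)]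

/-- fixed points -/
theorem eq_one_of_comm {m : ℕ} (hN : N + 1 = 2 ^ m) [CharP F 2] (a : Kˣ) (v : Matrix (Fin N) Unit F) (hv : v ≠ 0)
    (h : mhom b a * thom (Multiplicative.ofAdd v) = thom (Multiplicative.ofAdd v) * mhom b a) : a = 1 := by
  set d := (Algebra.leftMulMatrix b (a : K)).det with hd
  have hd0 : d ≠ 0 := det_ne_zero_unit b a
  have h1 : mhom b a * thom (Multiplicative.ofAdd v) * (mhom b a)⁻¹ = thom (Multiplicative.ofAdd v) := by
    rw [mul_inv_eq_iff_eq_mul, h]
  rw [mhom_mul_thom] at h1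
  have h2 : d • (Algebra.leftMulMatrix b (a : K) * v) = v := thom_injective h1
  -- the element of `K`
  let x : K := b.equivFun.symm (fun i => v i ())
  have hx : ∀ i, b.repr x i = v i () := fun i => by
    have := congrFun (b.equivFun.apply_symm_apply (fun i => v i ())) i
    rwa [Module.Basis.equivFun_apply] at this
  have hx0 : x ≠ 0 := by
    intro h0
    apply hv
    ext i j
    rw [← hx i, h0]
    simp
  have h3 : algebraMap F K d * ((a : K) * x) = x := by
    rw [← Algebra.smul_def]
    apply b.repr.injective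
    ext i
    rw [map_smul, Finsupp.smul_apply, ← Algebra.leftMulMatrix_mulVec_repr, hx]
    have h4 := congrFun (congrFun h2 i) ()
    rw [Matrix.smul_apply, Matrix.mul_apply] at h4
    rw [Matrix.mulVec, dotProduct]
    simp only [hx]
    exact h4
  have h5 : (a : K) = algebraMap F K d⁻¹ := by
    have h6 : algebraMap F K d * (a : K) = 1 := by
      apply mul_right_cancel₀ hx0
      rw [mul_assoc, h3, one_mul]
    rw [map_inv₀]
    exact eq_inv_of_mul_eq_one_right h6
  have h6 : d = (d⁻¹) ^ N := by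
    conv_lhs => rw [hd, h5, AlgHom.commutes, Matrix.algebraMap_eq_diagonal, Matrix.det_diagonal]
    simp
  have h7 : d ^ 2 ^ m = 1 := by
    have h8 : d ^ (N + 1) = 1 := by
      rw [pow_succ]
      nth_rw 2 [h6]
      rw [← mul_pow, mul_inv_cancel₀ hd0, one_pow]
    rwa [hN] at h8
  have h9 : d = 1 := by
    have : Fact (Nat.Prime 2) := ⟨Nat.prime_two⟩
    have : ExpChar F 2 := ExpChar.prime Nat.prime_two
    have := (ExpChar.pow_prime_pow_mul_eq_one_iff 2 m 1 d).1 (by rw [mul_one]; exact h7)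
    rwa [pow_one] at this
  apply Units.ext
  rw [h5, h9, inv_one, map_one, Units.val_one]

end one

theorem frob_one {F : Type*} [Field F] [Fintype F] {k m N : ℕ} (hF : Fintype.card F = 2 ^ k) [CharP F 2]
    (hN : N + 1 = 2 ^ m) (hN1 : 1 ≤ N) {p : ℕ} (hp : p.Prime) (hp2 : p ≠ 2) :
    FrobIn (Matrix.SpecialLinearGroup (Fin N ⊕ Unit) F) p ((2 ^ k) ^ N - 1) := by
  classical
  have : Fact (Nat.Prime 2) := ⟨Nat.prime_two⟩
  have : NeZero N := ⟨by omega⟩
  have : Finite (FiniteField.Extension F 2 N) := inferInstance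
  have hcard : Nat.card (FiniteField.Extension F 2 N)ˣ = (2 ^ k) ^ N - 1 := by
    rw [Nat.card_units, FiniteField.natCard_extension, Nat.card_eq_fintype_card, hF]
  obtain ⟨z, hz⟩ := IsCyclic.exists_ofOrder_eq_natCard (α := (FiniteField.Extension F 2 N)ˣ)
  rw [hcard] at hz
  let b : Module.Basis (Fin N) F (FiniteField.Extension F 2 N) :=
    Module.finBasisOfFinrankEq _ _ (FiniteField.finrank_extension F 2 N)
  refine ⟨(thom (F := F) (N := N)).range, mhom b z, ?_, ?_, ?_, ?_, ?_⟩
  · rw [orderOf_injective _ (mhom_injective b), hz]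
  · have h1 : Nat.card (thom (F := F) (N := N)).range = 2 ^ (k * N) := by
      rw [← Nat.card_congr (MonoidHom.ofInjective (thom_injective (F := F) (N := N))).toEquiv]
      change Nat.card (Fin N → Unit → F) = _
      rw [Nat.card_pi]
      simp [hF, pow_mul]
    rw [h1]
    exact Nat.Coprime.pow_left _ ((Nat.coprime_primes Nat.prime_two hp).2 (Ne.symm hp2))
  · intro h
    have h1 : thom (F := F) (N := N) (Multiplicative.ofAdd (fun _ _ => 1)) ∈ (thom (F := F) (N := N)).range := ⟨_, rfl⟩
    rw [h, Subgroup.mem_bot, map_eq_one_iff _ thom_injective] at h1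
    have h2 : (fun _ _ => (1 : F) : Matrix (Fin N) Unit F) = 0 := h1
    have h3 := congrFun (congrFun h2 ⟨0, by omega⟩) ()
    simp at h3
  · rintro _ ⟨v, rfl⟩
    exact ⟨_, (mhom_mul_thom b z v.toAdd).symm⟩
  · rintro i hi him _ ⟨v, rfl⟩ hc
    rw [← map_pow] at hc
    by_contra hv
    have hv0 : v.toAdd ≠ 0 := by
      intro h
      apply hv
      have : v = 1 := h
      rw [this, map_one]
    have h1 := eq_one_of_comm b hN (z ^ i) v.toAdd hv0 hc
    have h2 := Nat.le_of_dvd hi (orderOf_dvd_of_pow_eq_one h1)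
    rw [hz] at h2
    omega

section two

variable {F K : Type*} [Field F] [Field K] [Algebra F K] {n : ℕ} (b : Module.Basis (Fin n) F K)

/-- endomorphisms of determinant one -/
noncomputable def emat (f : Module.End F K) (h : (LinearMap.toMatrixAlgEquiv b f).det = 1) :
    Matrix.SpecialLinearGroup (Fin n) F := ⟨LinearMap.toMatrixAlgEquiv b f, h⟩

theorem emat_pow (f : Module.End F K) (h : (LinearMap.toMatrixAlgEquiv b f).det = 1) (j : ℕ) :
    ((emat b f h ^ j : Matrix.SpecialLinearGroup (Fin n) F) : Matrix (Fin n) (Fin n) F) =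
      LinearMap.toMatrixAlgEquiv b (f ^ j) := by
  rw [Matrix.SpecialLinearGroup.coe_pow, map_pow]
  rfl

end two

theorem frob_two {F : Type*} [Field F] [Fintype F] {k m : ℕ} (hF : Fintype.card F = 2 ^ k) [CharP F 2]
    {w : ℕ} (hw : w.Prime) (ho : orderOf ((2 ^ k : ℕ) : ZMod w) = 2 ^ m) (hm : 1 ≤ m) :
    FrobIn (Matrix.SpecialLinearGroup (Fin (2 ^ m)) F) 2 (2 ^ m) := by
  classical
  have hf2 : Fact (Nat.Prime 2) := ⟨Nat.prime_two⟩
  have hn2 : 2 ≤ 2 ^ m := by
    calc 2 = 2 ^ 1 := rfl
      _ ≤ 2 ^ m := Nat.pow_le_pow_right (by norm_num) hm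
  have hne : NeZero (2 ^ m) := ⟨by omega⟩
  have hfin : Finite (FiniteField.Extension F 2 (2 ^ m)) := inferInstance
  have hcard : Nat.card (FiniteField.Extension F 2 (2 ^ m)) = (2 ^ k) ^ 2 ^ m := by
    rw [FiniteField.natCard_extension, Nat.card_eq_fintype_card, hF]
  set K := FiniteField.Extension F 2 (2 ^ m) with hK
  have hwne2 : w ≠ 2 := by
    rintro rfl
    have h1 : ((2 ^ k : ℕ) : ZMod 2) ^ 2 ^ m = 1 := orderOf_dvd_iff_pow_eq_one.1 (by rw [ho])
    have hk0 : k ≠ 0 := by
      rintro rfl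
      have := Fintype.one_lt_card (α := F)
      rw [hF] at this
      simp at this
    have h2 : ((2 ^ k : ℕ) : ZMod 2) = 0 := by
      rw [ZMod.natCast_eq_zero_iff]
      exact dvd_pow_self 2 hk0
    rw [h2, zero_pow (by omega)] at h1
    exact zero_ne_one h1
  have hk1 : 1 < 2 ^ k := by rw [← hF]; exact Fintype.one_lt_card
  have hdiv : ∀ j, w ∣ (2 ^ k) ^ j - 1 ↔ 2 ^ m ∣ j := by
    intro j
    rw [← ho, orderOf_dvd_iff_pow_eq_one, ← ZMod.natCast_eq_zero_iff, Nat.cast_sub (Nat.one_le_pow _ _ (by omega)),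
      Nat.cast_pow, Nat.cast_one, sub_eq_zero]
  -- the element of order `w`
  obtain ⟨a, ha⟩ : ∃ a : Kˣ, orderOf a = w := by
    have hfw := Fact.mk hw
    refine exists_prime_orderOf_dvd_card' w ?_
    rw [Nat.card_units, hcard, hdiv]
  let b : Module.Basis (Fin (2 ^ m)) F K := Module.finBasisOfFinrankEq _ _ (FiniteField.finrank_extension F 2 (2 ^ m))
  -- determinants
  have hdet2 : ∀ M : Matrix (Fin (2 ^ m)) (Fin (2 ^ m)) F, M ^ 2 ^ m = 1 → M.det = 1 := by
    intro M hM
    have h1 : M.det ^ 2 ^ m = 1 := by rw [← Matrix.det_pow, hM, Matrix.det_one]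
    have hE : ExpChar F 2 := ExpChar.prime Nat.prime_two
    have := (ExpChar.pow_prime_pow_mul_eq_one_iff 2 m 1 M.det).1 (by rw [mul_one]; exact h1)
    rwa [pow_one] at this
  have hdetw : ∀ M : Matrix (Fin (2 ^ m)) (Fin (2 ^ m)) F, M ^ w = 1 → M.det = 1 := by
    intro M hM
    have h1 : M.det ^ w = 1 := by rw [← Matrix.det_pow, hM, Matrix.det_one]
    have h0 : M.det ≠ 0 := by
      intro h
      rw [h, zero_pow hw.ne_zero] at h1
      exact zero_ne_one h1
    have h2 : M.det ^ (2 ^ k - 1) = 1 := by rw [← hF]; exact FiniteField.pow_card_sub_one_eq_one _ h0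
    have h3 : Nat.Coprime w (2 ^ k - 1) := by
      rw [Nat.Prime.coprime_iff_not_dvd hw]
      have := hdiv 1
      rw [pow_one] at this
      rw [this]
      intro h
      have := Nat.le_of_dvd one_pos h
      omega
    have h4 := pow_gcd_eq_one.2 ⟨h1, h2⟩
    rwa [h3, pow_one] at h4
  -- the two endomorphisms
  let u : Module.End F K := LinearMap.mulLeft F (a : K)
  have hupow : ∀ j, u ^ j = LinearMap.mulLeft F ((a : K) ^ j) := fun j => LinearMap.pow_mulLeft F K (a : K) j
  have hu1 : ∀ j, u ^ j = 1 ↔ w ∣ j := by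
    intro j
    rw [hupow, ← ha, orderOf_dvd_iff_pow_eq_one]
    constructor
    · intro h
      have := LinearMap.congr_fun h 1
      rw [LinearMap.mulLeft_apply, mul_one, Module.End.one_apply] at this
      exact Units.ext (by rw [Units.val_pow_eq_pow_val, this, Units.val_one])
    · intro h
      have h1 : (a : K) ^ j = 1 := by rw [← Units.val_pow_eq_pow_val, h, Units.val_one]
      rw [h1]
      ext x
      simp
  have hFin : ∀ x : K, x ^ ((2 ^ k) ^ 2 ^ m) = x := by
    intro x
    have := Fintype.ofFinite K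
    rw [← hcard, Nat.card_eq_fintype_card]
    exact FiniteField.pow_card x
  let t : Module.End F K := (FiniteField.frobeniusAlgHom F K).toLinearMap
  have ht : ∀ x, t x = x ^ (2 ^ k) := fun x => by
    change FiniteField.frobeniusAlgHom F K x = _
    rw [FiniteField.coe_frobeniusAlgHom, hF]
  have htpow : ∀ j x, (t ^ j) x = x ^ ((2 ^ k) ^ j) := by
    intro j
    induction j with
    | zero => intro x; simp
    | succ j ih => intro x; rw [pow_succ, Module.End.mul_apply, ih, ht, ← pow_mul, pow_succ, mul_comm (2 ^ k)]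
  have htn : t ^ 2 ^ m = 1 := by
    ext x
    rw [htpow, hFin]
    rfl
  have hdu : (LinearMap.toMatrixAlgEquiv b u).det = 1 := hdetw _ (by rw [← map_pow, (hu1 w).2 dvd_rfl, map_one])
  have hdt : (LinearMap.toMatrixAlgEquiv b t).det = 1 := hdet2 _ (by rw [← map_pow, htn, map_one])
  let U := emat b u hdu
  let T := emat b t hdt
  have hUpow : ∀ j, U ^ j = 1 ↔ w ∣ j := by
    intro j
    rw [← hu1]
    constructor
    · intro h
      have h1 := congrArg Subtype.val h
      rw [emat_pow] at h1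
      exact (LinearMap.toMatrixAlgEquiv b).injective (by rw [h1, map_one]; rfl)
    · intro h
      apply Subtype.ext
      rw [emat_pow, h, map_one]
      rfl
  have hUo : orderOf U = w := Nat.dvd_antisymm (orderOf_dvd_of_pow_eq_one ((hUpow w).2 dvd_rfl))
    ((hUpow _).1 (pow_orderOf_eq_one U))
  -- the relation
  have hrel : ∀ i j, T ^ i * U ^ j = U ^ (j * (2 ^ k) ^ i) * T ^ i := by
    intro i j
    apply Subtype.ext
    rw [Matrix.SpecialLinearGroup.coe_mul, Matrix.SpecialLinearGroup.coe_mul, emat_pow, emat_pow, emat_pow,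
      ← map_mul, ← map_mul]
    congr 1
    ext x
    rw [Module.End.mul_apply, Module.End.mul_apply, htpow, htpow, hupow, hupow, LinearMap.mulLeft_apply,
      LinearMap.mulLeft_apply, mul_pow, ← pow_mul]
  have hfix : ∀ i j, 0 < i → i < 2 ^ m → T ^ i * U ^ j = U ^ j * T ^ i → U ^ j = 1 := by
    intro i j hi him h
    rw [hrel] at h
    have h1 := mul_right_cancel h
    have h2 : U ^ (j * ((2 ^ k) ^ i - 1)) = 1 := by
      have h3 : U ^ (j * ((2 ^ k) ^ i - 1)) * U ^ j = U ^ j := by
        rw [← pow_add]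
        have h4 : 1 ≤ (2 ^ k) ^ i := Nat.one_le_pow _ _ (by omega)
        have h5 : j * ((2 ^ k) ^ i - 1) + j = j * (2 ^ k) ^ i := by
          rw [← Nat.mul_succ, Nat.succ_eq_add_one, Nat.sub_add_cancel h4]
        rw [h5, h1]
      exact mul_eq_right.1 h3
    rw [hUpow, hw.dvd_mul] at h2
    rw [hUpow]
    refine h2.resolve_right fun h3 => ?_
    rw [hdiv] at h3
    have := Nat.le_of_dvd hi h3
    omega
  have hTo : orderOf T = 2 ^ m := by
    apply Nat.dvd_antisymm
    · apply orderOf_dvd_of_pow_eq_one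
      apply Subtype.ext
      rw [emat_pow, htn, map_one]
      rfl
    · rw [← hdiv]
      have h1 := hrel (orderOf T) 1
      rw [pow_orderOf_eq_one, one_mul, mul_one, pow_one, one_mul] at h1
      have h4 : 1 ≤ (2 ^ k) ^ orderOf T := Nat.one_le_pow _ _ (by omega)
      rw [← hUpow]
      have h5 : U ^ ((2 ^ k) ^ orderOf T - 1) * U = U := by
        rw [← pow_succ, Nat.sub_add_cancel h4, ← h1]
      exact mul_eq_right.1 h5
  refine ⟨Subgroup.zpowers U, T, hTo, ?_, ?_, ?_, ?_⟩
  · rw [Nat.card_zpowers, hUo]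
    exact (Nat.coprime_primes hw Nat.prime_two).2 hwne2
  · rw [Ne, Subgroup.zpowers_eq_bot]
    intro h
    rw [h, orderOf_one] at hUo
    exact hw.one_lt.ne hUo
  · intro x hx
    obtain ⟨j, rfl⟩ : ∃ j : ℕ, U ^ j = x := by
      obtain ⟨j, -, hj⟩ := Finset.mem_image.1 (mem_zpowers_iff_mem_range_orderOf.1 hx)
      exact ⟨j, hj⟩
    have h1 := hrel 1 j
    rw [pow_one] at h1
    rw [h1, mul_inv_cancel_right]
    exact Subgroup.npow_mem_zpowers _ _
  · intro i hi him x hx h
    obtain ⟨j, rfl⟩ : ∃ j : ℕ, U ^ j = x := by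
      obtain ⟨j, -, hj⟩ := Finset.mem_image.1 (mem_zpowers_iff_mem_range_orderOf.1 hx)
      exact ⟨j, hj⟩
    exact hfix i j hi him h

end Cfsg.Agent.H414.T29
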